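import Groth.Prelude.Def_Dual3
import Groth.Agent.H4.GL2
import Mathlib

set_option autoImplicit false
universe u
open CategoryTheory CategoryTheory.Limits AlgebraicGeometry

namespace Groth.Agent.H8.ArtinFibre

variable {A : Type u} [CommRing A] [IsLocalRing A]

theorem eq_closedPoint [IsArtinianRing A] (y : Spec (CommRingCat.of A)) :
    y = IsLocalRing.closedPoint A := by
  apply PrimeSpectrum.ext
  have : y.asIdeal.IsMaximal := IsArtinianRing.isMaximal_of_isPrime y.asIdeal
  exact IsLocalRing.eq_maximalIdeal this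

theorem exists_iso_residue (y : Spec (CommRingCat.of A)) (hy : y = IsLocalRing.closedPoint A) :
    ∃ ε : Spec ((Spec (CommRingCat.of A)).residueField y) ⟶
        Spec (CommRingCat.of (IsLocalRing.ResidueField A)),
      IsIso ε ∧ ε ≫ Spec.map (CommRingCat.ofHom (IsLocalRing.residue A)) =
        (Spec (CommRingCat.of A)).fromSpecResidueField y := by
  subst hy
  let e23 : (IsLocalRing.ResidueField A) ≃+* (IsLocalRing.maximalIdeal A).ResidueField :=
    RingEquiv.ofBijective
      (algebraMap (A ⧸ IsLocalRing.maximalIdeal A) (IsLocalRing.maximalIdeal A).ResidueField)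
      (Ideal.bijective_algebraMap_quotient_residueField _)
  have hcomp : CommRingCat.ofHom (IsLocalRing.residue A) ≫ e23.toCommRingCatIso.hom =
      CommRingCat.ofHom (algebraMap A (IsLocalRing.maximalIdeal A).ResidueField) := by
    ext a
    exact (IsScalarTower.algebraMap_apply A (A ⧸ IsLocalRing.maximalIdeal A) _ a).symm
  refine ⟨Spec.map (Scheme.Spec.residueFieldIso (CommRingCat.of A) (IsLocalRing.closedPoint A)).inv ≫
    Spec.map e23.toCommRingCatIso.hom, inferInstance, ?_⟩
  refine (Category.assoc _ _ _).trans ?_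
  refine (congrArg (_ ≫ ·) ((Spec.map_comp _ _).symm.trans (congrArg Spec.map hcomp))).trans ?_
  exact Scheme.Spec.map_residueFieldIso_inv_eq_fromSpecResidueField (CommRingCat.of A)
    (IsLocalRing.closedPoint A)

theorem fiber_iso {P X : Scheme.{u}} (f : P ⟶ Spec (CommRingCat.of A))
    (i : X ⟶ P) (q : X ⟶ Spec (CommRingCat.of (IsLocalRing.ResidueField A)))
    (hsq : IsPullback i q f (Spec.map (CommRingCat.ofHom (IsLocalRing.residue A))))
    (y : Spec (CommRingCat.of A)) (hy : y = IsLocalRing.closedPoint A) :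
    Nonempty (f.fiber y ≅ X) := by
  obtain ⟨ε, hε, hcomm⟩ := exists_iso_residue y hy
  have := hε
  have h1 : f ≫ 𝟙 _ = 𝟙 P ≫ f := by simp
  have h2 : (Spec (CommRingCat.of A)).fromSpecResidueField y ≫ 𝟙 _ =
      ε ≫ Spec.map (CommRingCat.ofHom (IsLocalRing.residue A)) := by
    rw [Category.comp_id, hcomm]
  have e1 : pullback f ((Spec (CommRingCat.of A)).fromSpecResidueField y) ≅
      pullback f (Spec.map (CommRingCat.ofHom (IsLocalRing.residue A))) :=
    asIso (pullback.map f ((Spec (CommRingCat.of A)).fromSpecResidueField y) f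
      (Spec.map (CommRingCat.ofHom (IsLocalRing.residue A))) (𝟙 P) ε (𝟙 _) h1 h2)
  have e1' : f.fiber y ≅ pullback f (Spec.map (CommRingCat.ofHom (IsLocalRing.residue A))) := e1
  exact ⟨e1' ≪≫ hsq.isoPullback.symm⟩

theorem main [IsArtinianRing A]
    {P X : Scheme.{u}} (f : P ⟶ Spec (CommRingCat.of A)) [Flat f]
    (i : X ⟶ P) (q : X ⟶ Spec (CommRingCat.of (IsLocalRing.ResidueField A)))
    (hsq : IsPullback i q f (Spec.map (CommRingCat.ofHom (IsLocalRing.residue A))))
    (hX : Dual3.IsGorenstein X) : Dual3.IsGorensteinMor f := by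
  intro x
  refine ⟨Flat.stalkMap f x, ?_⟩
  obtain ⟨φ⟩ := fiber_iso f i q hsq (f x) (eq_closedPoint _)
  have e : X.presheaf.stalk (φ.hom (f.asFiber x)) ≃+*
      (f.fiber (f x)).presheaf.stalk (f.asFiber x) :=
    (asIso (φ.hom.stalkMap (f.asFiber x))).commRingCatIsoToRingEquiv
  exact Groth.Agent.H4.GL2.isGorensteinLocalRing_of_ringEquiv e (hX.2 _)

end Groth.Agent.H8.ArtinFibre
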