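import Mathlib

open TensorProduct

namespace Groth.Agent.H8.DirSummand

universe u v

section basics
variable {R : Type u} [CommRing R] {M : Type v} [AddCommGroup M] [Module R M] (I : Ideal R)

theorem exists_one_tmul (b : (R ⧸ I) ⊗[R] M) : ∃ x : M, (1 : R ⧸ I) ⊗ₜ[R] x = b := by
  induction b using TensorProduct.induction_on with
  | zero => exact ⟨0, by simp⟩
  | tmul r m =>
    obtain ⟨r, rfl⟩ := Ideal.Quotient.mk_surjective r
    refine ⟨r • m, ?_⟩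
    rw [TensorProduct.tmul_smul, TensorProduct.smul_tmul', Algebra.smul_def, mul_one]
    rfl
  | add x y hx hy =>
    obtain ⟨a, rfl⟩ := hx
    obtain ⟨b, rfl⟩ := hy
    exact ⟨a + b, by rw [TensorProduct.tmul_add]⟩

theorem one_tmul_eq_zero_iff (x : M) :
    (1 : R ⧸ I) ⊗ₜ[R] x = 0 ↔ x ∈ I • (⊤ : Submodule R M) := by
  rw [← (TensorProduct.quotTensorEquivQuotSMul M I).map_eq_zero_iff,
    TensorProduct.quotTensorEquivQuotSMul_mk_one_tmul, Submodule.Quotient.mk_eq_zero]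

end basics

theorem exists_directSummand_lift {R : Type u} [CommRing R]
    {H₁ H H₂ : Type v}
    [AddCommGroup H₁] [Module R H₁] [AddCommGroup H] [Module R H] [AddCommGroup H₂] [Module R H₂]
    [Module.Projective R H₂]
    (f : H₁ →ₗ[R] H) (g : H →ₗ[R] H₂) (hf : Function.Injective f) (hg : Function.Surjective g)
    (hfg : Function.Exact f g)
    (F₁ : Submodule R H₁) (F₂ : Submodule R H₂)
    [Module.Projective R (H₁ ⧸ F₁)] [Module.Projective R (H₂ ⧸ F₂)]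
    (𝔫 : Ideal R)
    (Fb : Submodule (R ⧸ 𝔫) ((R ⧸ 𝔫) ⊗[R] H))
    (h1 : Fb ⊓ LinearMap.range (f.baseChange (R ⧸ 𝔫)) =
      Submodule.map (f.baseChange (R ⧸ 𝔫)) (F₁.baseChange (R ⧸ 𝔫)))
    (h2 : Submodule.map (g.baseChange (R ⧸ 𝔫)) Fb = F₂.baseChange (R ⧸ 𝔫)) :
    ∃ F : Submodule R H, (∃ C : Submodule R H, IsCompl F C) ∧
      F ⊓ LinearMap.range f = Submodule.map f F₁ ∧
      F.baseChange (R ⧸ 𝔫) = Fb ∧ Submodule.map g F = F₂ := by
  classical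
  have hgf : ∀ a, g (f a) = 0 := fun a => (hfg (f a)).mpr ⟨a, rfl⟩
  -- sections
  obtain ⟨s₁, hs₁⟩ := LinearMap.exists_rightInverse_of_surjective F₁.mkQ (Submodule.range_mkQ _)
  obtain ⟨s₂, hs₂⟩ := LinearMap.exists_rightInverse_of_surjective F₂.mkQ (Submodule.range_mkQ _)
  obtain ⟨s₀, hs₀⟩ := LinearMap.exists_rightInverse_of_surjective g
    (LinearMap.range_eq_top.mpr hg)
  have hs₁' : ∀ q, F₁.mkQ (s₁ q) = q := fun q => LinearMap.congr_fun hs₁ q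
  have hs₂' : ∀ q, F₂.mkQ (s₂ q) = q := fun q => LinearMap.congr_fun hs₂ q
  have hs₀' : ∀ y, g (s₀ y) = y := fun y => LinearMap.congr_fun hs₀ y
  have mem_of_mkQ₁ : ∀ x, F₁.mkQ x = 0 → x ∈ F₁ := fun x hx => by
    have := LinearMap.mem_ker.mpr hx; rwa [Submodule.ker_mkQ] at this
  have mem_of_mkQ₂ : ∀ x, F₂.mkQ x = 0 → x ∈ F₂ := fun x hx => by
    have := LinearMap.mem_ker.mpr hx; rwa [Submodule.ker_mkQ] at this
  have mkQ_of_mem₁ : ∀ x, x ∈ F₁ → F₁.mkQ x = 0 := fun x hx => by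
    rw [← LinearMap.mem_ker, Submodule.ker_mkQ]; exact hx
  have mkQ_of_mem₂ : ∀ x, x ∈ F₂ → F₂.mkQ x = 0 := fun x hx => by
    rw [← LinearMap.mem_ker, Submodule.ker_mkQ]; exact hx
  let ρ₁ : H₁ →ₗ[R] H₁ := LinearMap.id - s₁ ∘ₗ F₁.mkQ
  let ρ₂ : H₂ →ₗ[R] H₂ := LinearMap.id - s₂ ∘ₗ F₂.mkQ
  have hρ₁mem : ∀ x, ρ₁ x ∈ F₁ := fun x => mem_of_mkQ₁ _ (by
    simp only [ρ₁, LinearMap.sub_apply, LinearMap.id_apply, LinearMap.comp_apply, map_sub, hs₁',
      sub_self])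
  have hρ₂mem : ∀ x, ρ₂ x ∈ F₂ := fun x => mem_of_mkQ₂ _ (by
    simp only [ρ₂, LinearMap.sub_apply, LinearMap.id_apply, LinearMap.comp_apply, map_sub, hs₂',
      sub_self])
  have hρ₁id : ∀ x ∈ F₁, ρ₁ x = x := fun x hx => by
    simp only [ρ₁, LinearMap.sub_apply, LinearMap.id_apply, LinearMap.comp_apply,
      mkQ_of_mem₁ x hx, map_zero, sub_zero]
  have hρ₂id : ∀ x ∈ F₂, ρ₂ x = x := fun x hx => by
    simp only [ρ₂, LinearMap.sub_apply, LinearMap.id_apply, LinearMap.comp_apply,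
      mkQ_of_mem₂ x hx, map_zero, sub_zero]
  let ρ₂' : H₂ →ₗ[R] F₂ := LinearMap.codRestrict F₂ ρ₂ hρ₂mem
  have hρ₂'id : ∀ y : F₂, ρ₂' (y : H₂) = y := fun y => Subtype.ext (hρ₂id y.1 y.2)
  have : Module.Projective R F₂ :=
    Module.Projective.of_split F₂.subtype ρ₂' (by
      ext y
      rw [LinearMap.comp_apply, Submodule.subtype_apply, hρ₂'id]
      rfl)
  -- the auxiliary submodule
  let Ft : Submodule R H :=
    (Fb.restrictScalars R).comap (TensorProduct.mk R (R ⧸ 𝔫) H 1) ⊓ F₂.comap g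
  have hFt : ∀ x, x ∈ Ft ↔ ((1 : R ⧸ 𝔫) ⊗ₜ[R] x ∈ Fb ∧ g x ∈ F₂) := fun x => Iff.rfl
  let gt : Ft →ₗ[R] F₂ :=
    LinearMap.codRestrict F₂ (g ∘ₗ Ft.subtype) (fun x => ((hFt x.1).mp x.2).2)
  have hgt_surj : Function.Surjective gt := by
    rintro ⟨y, hy⟩
    have hy' : (1 : R ⧸ 𝔫) ⊗ₜ[R] y ∈ Submodule.map (g.baseChange (R ⧸ 𝔫)) Fb := by
      rw [h2]; exact Submodule.tmul_mem_baseChange_of_mem _ hy
    obtain ⟨b, hb, hgb⟩ := hy'
    obtain ⟨x₀, rfl⟩ := exists_one_tmul 𝔫 b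
    rw [LinearMap.baseChange_tmul] at hgb
    have h0 : (1 : R ⧸ 𝔫) ⊗ₜ[R] (g x₀ - y) = 0 := by
      rw [TensorProduct.tmul_sub, hgb, sub_self]
    rw [one_tmul_eq_zero_iff] at h0
    have h3 : (𝔫 • (⊤ : Submodule R H₂)) = Submodule.map g (𝔫 • (⊤ : Submodule R H)) := by
      rw [Submodule.map_smul'', Submodule.map_top, LinearMap.range_eq_top.mpr hg]
    rw [h3] at h0
    obtain ⟨n, hn, hgn⟩ := h0
    have hn0 : (1 : R ⧸ 𝔫) ⊗ₜ[R] n = 0 := (one_tmul_eq_zero_iff 𝔫 n).mpr hn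
    refine ⟨⟨x₀ - n, (hFt _).mpr ⟨?_, ?_⟩⟩, ?_⟩
    · rw [TensorProduct.tmul_sub, hn0, sub_zero]; exact hb
    · rw [map_sub, hgn, sub_sub_cancel]; exact hy
    · apply Subtype.ext
      simp only [gt, LinearMap.codRestrict_apply, LinearMap.comp_apply, Submodule.subtype_apply]
      rw [map_sub, hgn, sub_sub_cancel]
  obtain ⟨z₀, hz₀⟩ := LinearMap.exists_rightInverse_of_surjective gt
    (LinearMap.range_eq_top.mpr hgt_surj)
  let z : F₂ →ₗ[R] H := Ft.subtype ∘ₗ z₀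
  have hgz : ∀ y : F₂, g (z y) = (y : H₂) := fun y => by
    have := LinearMap.congr_fun hz₀ y
    have h' := congrArg Subtype.val this
    simpa [gt, z] using h'
  have hzFb : ∀ y : F₂, (1 : R ⧸ 𝔫) ⊗ₜ[R] z y ∈ Fb := fun y => ((hFt _).mp (z₀ y).2).1
  let F : Submodule R H := Submodule.map f F₁ ⊔ LinearMap.range z
  have hFmem : ∀ x, x ∈ F ↔ ∃ a ∈ F₁, ∃ y : F₂, f a + z y = x := by
    intro x
    simp only [F, Submodule.mem_sup, Submodule.mem_map, LinearMap.mem_range]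
    constructor
    · rintro ⟨_, ⟨a, ha, rfl⟩, _, ⟨y, rfl⟩, rfl⟩; exact ⟨a, ha, y, rfl⟩
    · rintro ⟨a, ha, y, rfl⟩; exact ⟨_, ⟨a, ha, rfl⟩, _, ⟨y, rfl⟩, rfl⟩
  have h1Fb : ∀ a ∈ F₁, (1 : R ⧸ 𝔫) ⊗ₜ[R] f a ∈ Fb := by
    intro a ha
    have : (1 : R ⧸ 𝔫) ⊗ₜ[R] f a ∈
        Submodule.map (f.baseChange (R ⧸ 𝔫)) (F₁.baseChange (R ⧸ 𝔫)) :=
      ⟨1 ⊗ₜ a, Submodule.tmul_mem_baseChange_of_mem _ ha, by rw [LinearMap.baseChange_tmul]⟩
    rw [← h1] at this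
    exact this.1
  refine ⟨F, ?_, ?_, ?_, ?_⟩
  · -- complement
    let s : H₂ →ₗ[R] H := z ∘ₗ ρ₂' + s₀ ∘ₗ (LinearMap.id - ρ₂)
    have hgs : ∀ y, g (s y) = y := by
      intro y
      simp only [s, LinearMap.add_apply, LinearMap.comp_apply, map_add, hgz, hs₀',
        LinearMap.sub_apply, LinearMap.id_apply, ρ₂', LinearMap.codRestrict_apply]
      abel
    have hs_on : ∀ y : F₂, s y = z y := by
      intro y
      simp only [s, LinearMap.add_apply, LinearMap.comp_apply, hρ₂'id, LinearMap.sub_apply,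
        LinearMap.id_apply, hρ₂id y.1 y.2, sub_self, map_zero, add_zero]
    have hker : ∀ h, (LinearMap.id - s ∘ₗ g : H →ₗ[R] H) h ∈ LinearMap.range f := by
      intro h
      rw [← hfg.linearMap_ker_eq, LinearMap.mem_ker]
      simp only [LinearMap.sub_apply, LinearMap.id_apply, LinearMap.comp_apply, map_sub, hgs,
        sub_self]
    let fe := LinearEquiv.ofInjective f hf
    let t : H →ₗ[R] H₁ := fe.symm.toLinearMap ∘ₗ
      LinearMap.codRestrict (LinearMap.range f) (LinearMap.id - s ∘ₗ g) hker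
    have hft : ∀ h, f (t h) = h - s (g h) := by
      intro h
      have := fe.apply_symm_apply
        (LinearMap.codRestrict (LinearMap.range f) (LinearMap.id - s ∘ₗ g) hker h)
      have h' := congrArg Subtype.val this
      simpa [fe, t] using h'
    let P : H →ₗ[R] H := f ∘ₗ ρ₁ ∘ₗ t + z ∘ₗ ρ₂' ∘ₗ g
    have hPmem : ∀ h, P h ∈ F := fun h =>
      (hFmem _).mpr ⟨ρ₁ (t h), hρ₁mem _, ρ₂' (g h), rfl⟩
    have hPid : ∀ x ∈ F, P x = x := by
      intro x hx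
      obtain ⟨a, ha, y, rfl⟩ := (hFmem x).mp hx
      have hgx : g (f a + z y) = y := by rw [map_add, hgf, hgz, zero_add]
      have htx : t (f a + z y) = a := by
        apply hf
        rw [hft, hgx, hs_on, add_sub_cancel_right]
      simp only [P, LinearMap.add_apply, LinearMap.comp_apply, hgx, htx, hρ₂'id, hρ₁id a ha]
    exact ⟨_, LinearMap.isCompl_of_proj (p := F) (f := LinearMap.codRestrict F P hPmem)
      (fun x => Subtype.ext (by simpa using hPid x.1 x.2))⟩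
  · apply le_antisymm
    · rintro x ⟨hxF, ⟨h, rfl⟩⟩
      obtain ⟨a, ha, y, hxy⟩ := (hFmem _).mp hxF
      have : (y : H₂) = 0 := by
        have := congrArg g hxy
        rw [map_add, hgf, hgf, hgz, zero_add] at this
        exact this
      have hy0 : y = 0 := Subtype.ext this
      rw [hy0, map_zero, add_zero] at hxy
      exact ⟨a, ha, hxy⟩
    · exact le_inf le_sup_left LinearMap.map_le_range
  · apply le_antisymm
    · rw [Submodule.baseChange_eq_span, Submodule.span_le]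
      rintro _ ⟨x, hx, rfl⟩
      obtain ⟨a, ha, y, rfl⟩ := (hFmem x).mp hx
      simp only [TensorProduct.mk_apply, SetLike.mem_coe]
      rw [TensorProduct.tmul_add]
      exact Fb.add_mem (h1Fb a ha) (hzFb y)
    · intro b hb
      have hgb : g.baseChange (R ⧸ 𝔫) b ∈ F₂.baseChange (R ⧸ 𝔫) := by
        rw [← h2]; exact ⟨b, hb, rfl⟩
      obtain ⟨c, hc⟩ := hgb
      obtain ⟨y, rfl⟩ := exists_one_tmul 𝔫 c
      rw [LinearMap.baseChange_tmul, Submodule.subtype_apply] at hc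
      have hb'F : (1 : R ⧸ 𝔫) ⊗ₜ[R] z y ∈ F.baseChange (R ⧸ 𝔫) :=
        Submodule.tmul_mem_baseChange_of_mem _ ((hFmem _).mpr ⟨0, F₁.zero_mem, y, by simp⟩)
      have hb'Fb : (1 : R ⧸ 𝔫) ⊗ₜ[R] z y ∈ Fb := hzFb y
      have hgb' : g.baseChange (R ⧸ 𝔫) ((1 : R ⧸ 𝔫) ⊗ₜ[R] z y) = g.baseChange (R ⧸ 𝔫) b := by
        rw [LinearMap.baseChange_tmul, hgz, hc]
      have hex : Function.Exact (f.baseChange (R ⧸ 𝔫)) (g.baseChange (R ⧸ 𝔫)) := by
        rw [LinearMap.baseChange_eq_ltensor, LinearMap.baseChange_eq_ltensor]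
        exact lTensor_exact (R ⧸ 𝔫) hfg hg
      have hdiff : b - (1 : R ⧸ 𝔫) ⊗ₜ[R] z y ∈
          Fb ⊓ LinearMap.range (f.baseChange (R ⧸ 𝔫)) := by
        refine ⟨Fb.sub_mem hb hb'Fb, ?_⟩
        rw [SetLike.mem_coe, LinearMap.mem_range]
        exact (hex _).mp (by rw [map_sub, hgb', sub_self])
      rw [h1] at hdiff
      obtain ⟨c₁, hc₁, hc₁b⟩ := hdiff
      obtain ⟨c₂, rfl⟩ := hc₁
      obtain ⟨a, rfl⟩ := exists_one_tmul 𝔫 c₂
      rw [LinearMap.baseChange_tmul, LinearMap.baseChange_tmul, Submodule.subtype_apply] at hc₁b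
      have : b = (1 : R ⧸ 𝔫) ⊗ₜ[R] f a + (1 : R ⧸ 𝔫) ⊗ₜ[R] z y := by rw [hc₁b]; abel
      rw [this]
      exact Submodule.add_mem _ (Submodule.tmul_mem_baseChange_of_mem _
        ((hFmem _).mpr ⟨a, a.2, 0, by simp⟩)) hb'F
  · apply le_antisymm
    · rintro _ ⟨x, hx, rfl⟩
      obtain ⟨a, ha, y, rfl⟩ := (hFmem x).mp hx
      rw [map_add, hgf, hgz, zero_add]; exact y.2
    · intro y hy
      exact ⟨z ⟨y, hy⟩, (hFmem _).mpr ⟨0, F₁.zero_mem, ⟨y, hy⟩, by simp⟩, hgz ⟨y, hy⟩⟩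

end Groth.Agent.H8.DirSummand
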