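import Groth.Prelude.Def_AssocGrMod
import Groth.Prelude.Def_EGA4b
import Mathlib

set_option autoImplicit false
universe u

namespace Groth.Agent.H8.GrModFlat

open AssocGr

section Generic

variable {R X G Q : Type*} [CommRing R] [AddCommGroup X] [AddCommGroup G] [AddCommGroup Q]
  [Module R X] [Module R G] [Module R Q]

/-- Descend a linear map along a surjection. -/
noncomputable def descend (p : X →ₗ[R] G) (hp : Function.Surjective p) (f : X →ₗ[R] Q)
    (h : LinearMap.ker p ≤ LinearMap.ker f) : G →ₗ[R] Q :=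
  ((LinearMap.ker p).liftQ f h).comp (p.quotKerEquivOfSurjective hp).symm.toLinearMap

theorem descend_apply (p : X →ₗ[R] G) (hp : Function.Surjective p) (f : X →ₗ[R] Q)
    (h : LinearMap.ker p ≤ LinearMap.ker f) (x : X) : descend p hp f h (p x) = f x := by
  unfold descend
  rw [LinearMap.comp_apply, LinearEquiv.coe_coe, LinearMap.quotKerEquivOfSurjective_symm_apply]
  exact Submodule.liftQ_apply _ _ _

theorem mem_smul_top_of_mem_smul {M : Type*} [AddCommGroup M] [Module R M] (I : Ideal R)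
    {N : Submodule R M} (x : N) (hx : (x : M) ∈ I • N) :
    x ∈ I • (⊤ : Submodule R N) := by
  have h : (I • (⊤ : Submodule R N)).map N.subtype = I • N := by
    rw [Submodule.map_smul'', Submodule.map_subtype_top]
  rw [← h] at hx
  obtain ⟨y, hy, hyx⟩ := hx
  have : y = x := Subtype.ext hyx
  exact this ▸ hy

end Generic

section Main

variable {A : Type u} [CommRing A] (I : Ideal A) (M : Type u) [AddCommGroup M] [Module A M]

/-- The n-th piece `IⁿM ⧸ I·IⁿM` as in `EGA4.IsNormallyFlat`. -/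
abbrev Q (n : ℕ) : Type u :=
  ↥(I ^ n • (⊤ : Submodule A M)) ⧸ (I • (⊤ : Submodule A ↥(I ^ n • (⊤ : Submodule A M))))

instance instTowerQ (n : ℕ) : IsScalarTower A (A ⧸ I) (Q I M n) :=
  Module.IsTorsionBySet.isScalarTower (Module.isTorsionBySet_quotient_ideal_smul _ I)

/-- `x ↦ class of x·Xⁿ`, `A`-linear. -/
noncomputable def iota0 (n : ℕ) :
    ↥(I ^ n • (⊤ : Submodule A M)) →ₗ[A] GrMod (Rees.powFilt I M) where
  toFun x := mkGM (Rees.powFilt I M) (monomM (Rees.powFilt I M) n x)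
  map_add' x y := by
    have := map_add (inDegM (Rees.powFilt I M) n) x y
    exact congrArg Subtype.val this
  map_smul' a x := coe_inDegM_smul (Rees.powFilt I M) n a x

theorem iota0_kills (n : ℕ) :
    I • (⊤ : Submodule A ↥(I ^ n • (⊤ : Submodule A M))) ≤ LinearMap.ker (iota0 I M n) := by
  rw [Submodule.smul_le]
  intro a ha x _
  rw [LinearMap.mem_ker, map_smul]
  exact @isTorsionBySet_base A _ I M _ _ (Rees.powFilt I M) (iota0 I M n x) ⟨a, ha⟩

noncomputable def iotaA (n : ℕ) : Q I M n →ₗ[A] GrMod (Rees.powFilt I M) :=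
  Submodule.liftQ _ (iota0 I M n) (iota0_kills I M n)

theorem iotaA_mk (n : ℕ) (x : ↥(I ^ n • (⊤ : Submodule A M))) :
    iotaA I M n (Submodule.Quotient.mk x) =
      mkGM (Rees.powFilt I M) (monomM (Rees.powFilt I M) n x) := rfl

noncomputable def coeffLin (n : ℕ) :
    ReesM (Rees.powFilt I M) →ₗ[A] ↥(I ^ n • (⊤ : Submodule A M)) where
  toFun y := ⟨ReesM.coeff _ y n, ReesM.coeff_mem _ y n⟩
  map_add' y y' := Subtype.ext (ReesM.coeff_add _ y y' n)
  map_smul' a y := Subtype.ext (ReesM.coeff_smul_base _ a y n)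

noncomputable def pre (n : ℕ) : ReesM (Rees.powFilt I M) →ₗ[A] Q I M n :=
  (Submodule.mkQ _).comp (coeffLin I M n)

theorem ker_mkGM_le (n : ℕ) :
    LinearMap.ker (mkGM (Rees.powFilt I M)) ≤ LinearMap.ker (pre I M n) := by
  intro y hy
  rw [LinearMap.mem_ker, mkGM_eq_zero_iff] at hy
  rw [LinearMap.mem_ker]
  unfold pre
  rw [LinearMap.comp_apply, Submodule.mkQ_apply, Submodule.Quotient.mk_eq_zero]
  apply mem_smul_top_of_mem_smul
  have h := hy n
  change ReesM.coeff _ y n ∈ I • (I ^ n • (⊤ : Submodule A M))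
  rw [← Submodule.mul_smul, ← pow_succ']
  exact h

noncomputable def piA (n : ℕ) : GrMod (Rees.powFilt I M) →ₗ[A] Q I M n :=
  descend (mkGM _) (mkGM_surjective _) (pre I M n) (ker_mkGM_le I M n)

theorem piA_mkGM (n : ℕ) (y : ReesM (Rees.powFilt I M)) :
    piA I M n (mkGM _ y) =
      Submodule.Quotient.mk ⟨ReesM.coeff _ y n, ReesM.coeff_mem _ y n⟩ :=
  descend_apply _ _ _ _ y

theorem piA_iotaA_self (n : ℕ) (q : Q I M n) : piA I M n (iotaA I M n q) = q := by
  obtain ⟨x, rfl⟩ := Submodule.Quotient.mk_surjective _ q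
  rw [iotaA_mk, piA_mkGM]
  congr 1
  apply Subtype.ext
  change ReesM.coeff (Rees.powFilt I M) (monomM (Rees.powFilt I M) n x) n = x
  rw [ReesM.coeff_monomM, if_pos rfl]

theorem piA_iotaA_ne (m n : ℕ) (h : n ≠ m) (q : Q I M n) : piA I M m (iotaA I M n q) = 0 := by
  obtain ⟨x, rfl⟩ := Submodule.Quotient.mk_surjective _ q
  rw [iotaA_mk, piA_mkGM, Submodule.Quotient.mk_eq_zero]
  have : (⟨ReesM.coeff (Rees.powFilt I M) (monomM (Rees.powFilt I M) n x) m,
      ReesM.coeff_mem (Rees.powFilt I M) _ m⟩ : ↥(I ^ m • (⊤ : Submodule A M))) = 0 := by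
    apply Subtype.ext
    change ReesM.coeff (Rees.powFilt I M) (monomM (Rees.powFilt I M) n x) m = 0
    rw [ReesM.coeff_monomM, if_neg h]
  rw [this]; exact Submodule.zero_mem _

theorem exists_sum (g : GrMod (Rees.powFilt I M)) :
    ∃ s : Finset ℕ, g = ∑ n ∈ s, iotaA I M n (piA I M n g) := by
  obtain ⟨y, rfl⟩ := mkGM_surjective _ g
  have h := congrArg (mkGM (Rees.powFilt I M)) (sum_termM (Rees.powFilt I M) y)
  rw [map_sum] at h
  refine ⟨_, h.symm.trans (Finset.sum_congr rfl fun n _ => ?_)⟩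
  rw [piA_mkGM, iotaA_mk]
  rfl

noncomputable def iotaQ (n : ℕ) : Q I M n →ₗ[A ⧸ I] GrMod (Rees.powFilt I M) :=
  (iotaA I M n).extendScalarsOfSurjective Ideal.Quotient.mk_surjective

noncomputable def piQ (n : ℕ) : GrMod (Rees.powFilt I M) →ₗ[A ⧸ I] Q I M n :=
  (piA I M n).extendScalarsOfSurjective Ideal.Quotient.mk_surjective

theorem flat_piece (n : ℕ) [Module.Flat (A ⧸ I) (GrMod (Rees.powFilt I M))] :
    Module.Flat (A ⧸ I) (Q I M n) :=
  Module.Flat.of_retract (iotaQ I M n) (piQ I M n)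
    (LinearMap.ext fun q => piA_iotaA_self I M n q)

noncomputable def rMap : (DirectSum ℕ fun n => Q I M n) →ₗ[A ⧸ I] GrMod (Rees.powFilt I M) :=
  DirectSum.toModule (A ⧸ I) ℕ _ (iotaQ I M)

theorem piQ_rMap (m : ℕ) :
    (piQ I M m).comp (rMap I M) = DirectSum.component (A ⧸ I) ℕ (fun n => Q I M n) m := by
  apply DirectSum.linearMap_ext
  intro n
  apply LinearMap.ext
  intro q
  simp only [LinearMap.comp_apply]
  unfold rMap
  rw [DirectSum.toModule_lof]
  by_cases h : n = m
  · subst h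
    rw [DirectSum.component.lof_self]
    exact piA_iotaA_self I M n q
  · rw [DirectSum.component.of, dif_neg h]
    exact piA_iotaA_ne I M m n h q

theorem rMap_injective : Function.Injective (rMap I M) := by
  intro x y hxy
  apply DirectSum.ext_component (A ⧸ I)
  intro m
  have := congrArg (piQ I M m) hxy
  rwa [← LinearMap.comp_apply, ← LinearMap.comp_apply, piQ_rMap] at this

theorem rMap_surjective : Function.Surjective (rMap I M) := by
  intro g
  obtain ⟨s, hs⟩ := exists_sum I M g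
  refine ⟨∑ n ∈ s, DirectSum.lof (A ⧸ I) ℕ (fun n => Q I M n) n (piA I M n g), ?_⟩
  rw [map_sum]
  refine (Finset.sum_congr rfl fun n _ => ?_).trans hs.symm
  unfold rMap
  rw [DirectSum.toModule_lof]
  rfl

theorem flat_grMod (h : ∀ n, Module.Flat (A ⧸ I) (Q I M n)) :
    Module.Flat (A ⧸ I) (GrMod (Rees.powFilt I M)) := by
  have := h
  exact Module.Flat.of_linearEquiv
    (LinearEquiv.ofBijective (rMap I M) ⟨rMap_injective I M, rMap_surjective I M⟩).symm

theorem isNormallyFlat_iff :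
    EGA4.IsNormallyFlat I M ↔ Module.Flat (A ⧸ I) (GrMod (Rees.powFilt I M)) :=
  ⟨fun h => flat_grMod I M h, fun _ n => flat_piece I M n⟩

end Main

end Groth.Agent.H8.GrModFlat
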