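import Groth.Prelude.Def_CInt
import Groth.Prelude.Def_Coh
import Groth.Agent.Lib.Lead.QC.HomAffine
import Mathlib

set_option autoImplicit false
universe u
open CategoryTheory CategoryTheory.Limits AlgebraicGeometry TopologicalSpace Opposite

namespace Groth.Agent.H8.TorsionFreeInj
open Groth.Agent.LD.QC

variable {X : Scheme.{u}}

lemma res_res_ring {U V W : X.Opens} (h1 : V ≤ U) (h2 : W ≤ V) (s : Γ(X, U)) :
    X.presheaf.map (homOfLE h2).op (X.presheaf.map (homOfLE h1).op s) =
      X.presheaf.map (homOfLE (h2.trans h1)).op s := by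
  rw [← CommRingCat.comp_apply, ← Functor.map_comp]; rfl

/-- A schematically dense open contains, inside every Noetherian affine open `W`, the basic open of
a regular function on `W`. -/
theorem exists_regular_basicOpen_le (U : X.Opens) (hU : CInt.IsSchematicallyDense U)
    {W : X.Opens} (hW : IsAffineOpen W) [IsNoetherianRing Γ(X, W)] :
    ∃ r ∈ nonZeroDivisors Γ(X, W), X.basicOpen r ≤ U := by
  by_contra hcon
  push Not at hcon
  let I : Ideal Γ(X, W) :=
    { carrier := {f | X.basicOpen f ≤ U}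
      add_mem' := fun {f g} hf hg => (X.basicOpen_add_le f g).trans (sup_le hf hg)
      zero_mem' := by
        change X.basicOpen (0 : Γ(X, W)) ≤ U
        rw [Scheme.basicOpen_zero]; exact bot_le
      smul_mem' := fun c f hf => by
        change X.basicOpen (c * f) ≤ U
        rw [Scheme.basicOpen_mul]; exact inf_le_right.trans hf }
  have hdisj : Disjoint (I : Set Γ(X, W)) (nonZeroDivisors Γ(X, W)) := by
    rw [Set.disjoint_left]
    intro r hr hnz
    exact hcon r hnz hr
  have hlt := Ideal.bot_lt_annihilator_of_disjoint_nonZeroDivisors hdisj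
  obtain ⟨a, ha, ha0⟩ := Submodule.exists_mem_ne_zero_of_ne_bot hlt.ne'
  apply ha0
  have haI : ∀ f : Γ(X, W), X.basicOpen f ≤ U → a * f = 0 := by
    intro f hf
    have := Module.mem_annihilator.mp ha (⟨f, hf⟩ : I)
    exact congrArg Subtype.val this
  apply hU W
  rw [map_zero]
  have key : ∀ x : (W ⊓ U : X.Opens),
      ∃ f : Γ(X, W), X.basicOpen f ≤ W ⊓ U ∧ x.1 ∈ X.basicOpen f :=
    fun x => hW.exists_basicOpen_le x x.2.1
  choose f hf1 hf2 using key
  refine TopCat.Sheaf.eq_of_locally_eq' X.sheaf (fun x => X.basicOpen (f x)) (W ⊓ U)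
    (fun x => homOfLE (hf1 x)) ?_ _ _ ?_
  · intro x hx
    exact Opens.mem_iSup.mpr ⟨⟨x, hx⟩, hf2 ⟨x, hx⟩⟩
  · intro x
    change X.presheaf.map (homOfLE (hf1 x)).op (X.presheaf.map (homOfLE inf_le_left).op a) =
      X.presheaf.map (homOfLE (hf1 x)).op 0
    rw [map_zero, res_res_ring]
    have hunit := X.toRingedSpace.isUnit_res_basicOpen (f x)
    have h0 : X.presheaf.map (homOfLE (X.basicOpen_le (f x))).op (a * f x) = 0 := by
      rw [haI (f x) ((hf1 x).trans inf_le_right), map_zero]
    rw [map_mul] at h0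
    exact (IsUnit.mul_left_eq_zero hunit).mp h0

variable [IsLocallyNoetherian X] (F G : X.Modules) [F.IsQuasicoherent]
  (htf : ∀ V : X.affineOpens, Submodule.torsion Γ(X, V.1) (F.val.obj (Opposite.op V.1)) = ⊥)
  (φ : F ⟶ G) (U : X.Opens) (hU : CInt.IsSchematicallyDense U)
  (hφU : ∀ V : X.Opens, V ≤ U → ∀ s : Γ(F, V), φ.app V s = 0 → s = 0)

include htf hU hφU in
theorem eq_zero_of_affine (W : X.affineOpens) (s : Γ(F, W.1)) (hs : φ.app W.1 s = 0) : s = 0 := by
  have : IsNoetherianRing Γ(X, W.1) := IsLocallyNoetherian.component_noetherian W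
  obtain ⟨r, hr, hrU⟩ := exists_regular_basicOpen_le U hU W.2
  have h1 : F.presheaf.map (homOfLE (X.basicOpen_le r)).op s = 0 := by
    apply hφU _ hrU
    rw [app_res, hs, map_zero]
  obtain ⟨n, hn⟩ := affine_inj F W.2 r s h1
  have hmem : (show (F.val.obj (Opposite.op W.1)) from s) ∈
      Submodule.torsion Γ(X, W.1) (F.val.obj (Opposite.op W.1)) := by
    rw [Submodule.mem_torsion_iff]
    exact ⟨⟨r ^ n, pow_mem hr n⟩, hn⟩
  rw [htf W] at hmem
  exact (Submodule.mem_bot _).mp hmem

include htf hU hφU in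
theorem eq_zero_general (V : X.Opens) (s : Γ(F, V)) (hs : φ.app V s = 0) : s = 0 := by
  apply section_ext_of_cover F (fun W : {W : X.affineOpens // W.1 ≤ V} => W.1.1) (fun W => W.2)
    (le_iSup_affineOpens V)
  intro W
  rw [map_zero]
  apply eq_zero_of_affine F G htf φ U hU hφU W.1
  rw [app_res, hs, map_zero]

end Groth.Agent.H8.TorsionFreeInj

namespace Groth.Agent.H8.TorsionFreeInj

theorem main (X : Scheme.{u})
    [IsLocallyNoetherian X] (F G : X.Modules) (hF : Coh.IsQCoh F)
    (htf : ∀ V : X.affineOpens, Submodule.torsion Γ(X, V.1) (F.val.obj (Opposite.op V.1)) = ⊥)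
    (φ : F ⟶ G) (U : X.Opens) (hU : CInt.IsSchematicallyDense U)
    (hφU : ∀ V : X.Opens, V ≤ U →
      Function.Injective ⇑(ConcreteCategory.hom (φ.val.app (Opposite.op V)))) (V : X.Opens) :
    Function.Injective ⇑(ConcreteCategory.hom (φ.val.app (Opposite.op V))) := by
  have : F.IsQuasicoherent := hF
  have hφU' : ∀ V : X.Opens, V ≤ U → ∀ s : Γ(F, V), φ.app V s = 0 → s = 0 := by
    intro V hV s hs
    exact hφU V hV
      (hs.trans (map_zero (ConcreteCategory.hom (φ.val.app (Opposite.op V)))).symm)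
  intro s₁ s₂ h
  have h0 : (ConcreteCategory.hom (φ.val.app (Opposite.op V))) (s₁ - s₂) = 0 := by
    rw [map_sub, h, sub_self]
  have := eq_zero_general F G htf φ U hU hφU' V (s₁ - s₂) h0
  exact sub_eq_zero.mp this

end Groth.Agent.H8.TorsionFreeInj
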